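import Cfsg.Agent.Lib.helper3.G24TC.U.Main
import Cfsg.Agent.Lib.helper3.G24TC.U.Struct
import Cfsg.Agent.Lib.Helper12.TCG.WPres

/-!
The centralised presentation on the three letters `A`, `C`, `u` (letters `0, 2, 4`, the odd letters being their
inverses), which generate a unitary group of degree three inside the Chevalley group of type `G₂` over the field
with four elements, has at most 6048 elements, by coset enumeration over the trivial subgroup (helper3).
-/

set_option autoImplicit false
set_option maxRecDepth 100000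

namespace Cfsg.Agent.Lib.Helper3.G24TC.U

open Cfsg.Agent.Lib.Helper12.TC Cfsg.Agent.Lib.Helper12.TCG Cfsg.Agent.Lib.Helper3.TCUpper
open Cfsg.Agent.Lib.Helper3.StemPres

/-- the presented group -/
abbrev Grp : Type := WPres.Grp 6 baseL

/-- the letters as elements of the presented group -/
def v : ℕ → Grp := WPres.v 6 baseL

theorem hbase : ∀ b ∈ baseL, wprod v b = 1 := WPres.hbase 6 baseL

theorem hvge : ∀ s, ¬ s < 6 → v s = 1 := WPres.hvge 6 baseL

theorem hvinv : ∀ s < 6, v (invS cIV s) = (v s)⁻¹ := WPres.hvinv 6 baseL cIV hpairs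

theorem hgen : ∀ γ : Grp, γ ∈ Subgroup.closure {y | ∃ x < 6, y = v x} := WPres.hgen 6 baseL

theorem hbase' : ∀ b ∈ baseOf cIV 6 sData rels posL, wprod v b = 1 := by
  rw [← baseL_eq]; exact hbase

theorem hswH : ∀ w ∈ sw, wprod v w ∈ (⊥ : Subgroup Grp) := by
  intro w hw
  exact absurd hw (by simp [sw])

theorem index_bound : Finite (Grp ⧸ (⊥ : Subgroup Grp)) ∧ Nat.card (Grp ⧸ (⊥ : Subgroup Grp)) ≤ cN :=
  index_le2 v 6 cIV (by decide) hiv hvinv hvge hgen baseL hbase hlet sw hletsw ⊥ hswH F finrecs chunks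
    cD cK cN hdefs hchunks hcover hfin hlen

/-- the presented group has at most 6048 elements -/
theorem card_le : Finite Grp ∧ Nat.card Grp ≤ 6048 := by
  obtain ⟨hf1, hc1⟩ := index_bound
  have hG : Finite Grp :=
    Finite.of_equiv _ (Subgroup.groupEquivQuotientProdSubgroup (s := (⊥ : Subgroup Grp))).symm
  refine ⟨hG, ?_⟩
  rw [Subgroup.card_eq_card_quotient_mul_card_subgroup (⊥ : Subgroup Grp), Subgroup.card_bot, mul_one]
  exact hc1

end Cfsg.Agent.Lib.Helper3.G24TC.U
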