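import Cfsg.Agent.Lib.helper3.G24TC.J.Main
import Cfsg.Agent.Lib.helper3.G24TC.J.Struct
import Cfsg.Agent.Lib.helper3.G24TC.PresU

/-!
The centralised presentation on the four letters `A`, `C`, `u`, `T` (letters `0, 2, 4, 6`, the odd letters being
their inverses), which generate a Hall–Janko group inside the Chevalley group of type `G₂` over the field with
four elements, has at most `200 * 6048` elements: the subgroup generated by the first three letters has index at
most 200 by coset enumeration, and it is a homomorphic image of the group of `PresU` (helper3).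
-/

set_option autoImplicit false
set_option maxRecDepth 100000

namespace Cfsg.Agent.Lib.Helper3.G24TC.J

open Cfsg.Agent.Lib.Helper12.TC Cfsg.Agent.Lib.Helper12.TCG Cfsg.Agent.Lib.Helper3.TCUpper
open Cfsg.Agent.Lib.Helper3.StemPres

/-- the presented group -/
abbrev Grp : Type := WPres.Grp 8 baseL

/-- the letters as elements of the presented group -/
def v : ℕ → Grp := WPres.v 8 baseL

theorem hbase : ∀ b ∈ baseL, wprod v b = 1 := WPres.hbase 8 baseL

theorem hvge : ∀ s, ¬ s < 8 → v s = 1 := WPres.hvge 8 baseL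

theorem hvinv : ∀ s < 8, v (invS cIV s) = (v s)⁻¹ := WPres.hvinv 8 baseL cIV hpairs

theorem hgen : ∀ γ : Grp, γ ∈ Subgroup.closure {y | ∃ x < 8, y = v x} := WPres.hgen 8 baseL

theorem hbase' : ∀ b ∈ baseOf cIV 8 sData rels posL, wprod v b = 1 := by
  rw [← baseL_eq]; exact hbase

/-- the subgroup generated by the first three letters -/
def H : Subgroup Grp := Subgroup.closure {v 0, v 2, v 4}

theorem hswH : ∀ w ∈ sw, wprod v w ∈ H := by
  intro w hw
  have : w = [0] ∨ w = [2] ∨ w = [4] := by simpa [sw] using hw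
  rcases this with rfl | rfl | rfl <;>
  · rw [wprod_cons, wprod_nil, mul_one]; exact Subgroup.subset_closure (by simp)

theorem index_bound : Finite (Grp ⧸ H) ∧ Nat.card (Grp ⧸ H) ≤ cN :=
  index_le2 v 8 cIV (by decide) hiv hvinv hvge hgen baseL hbase hlet sw hletsw H hswH F finrecs chunks
    cD cK cN hdefs hchunks hcover hfin hlen

theorem baseU_sub : ∀ b ∈ U.baseL, b ∈ baseL := by decide +kernel

/-- the homomorphism from the group of the first three letters -/
theorem exists_homU : ∃ ρ : U.Grp →* Grp, ∀ x < 6, ρ (U.v x) = v x :=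
  WPres.hlift 6 U.baseL U.hlet v (fun b hb => hbase b (baseU_sub b hb))

theorem card_H : Finite H ∧ Nat.card H ≤ 6048 := by
  obtain ⟨ρ, hρ⟩ := exists_homU
  obtain ⟨hfB, hcB⟩ := U.card_le
  have hle : H ≤ ρ.range := by
    unfold H
    rw [Subgroup.closure_le]
    intro y hy
    simp only [Set.mem_insert_iff, Set.mem_singleton_iff] at hy
    rcases hy with rfl | rfl | rfl
    · exact ⟨U.v 0, hρ 0 (by decide)⟩
    · exact ⟨U.v 2, hρ 2 (by decide)⟩
    · exact ⟨U.v 4, hρ 4 (by decide)⟩
  have hfr : Finite ρ.range := Finite.of_surjective ρ.rangeRestrict ρ.rangeRestrict_surjective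
  have hfH : Finite H := Finite.of_injective (Subgroup.inclusion hle) (Subgroup.inclusion_injective hle)
  refine ⟨hfH, ?_⟩
  calc Nat.card H ≤ Nat.card ρ.range := Nat.card_le_card_of_injective _ (Subgroup.inclusion_injective hle)
    _ ≤ Nat.card U.Grp := Nat.card_le_card_of_surjective _ ρ.rangeRestrict_surjective
    _ ≤ 6048 := hcB

/-- the presented group has at most `200 * 6048` elements -/
theorem card_le : Finite Grp ∧ Nat.card Grp ≤ 1209600 := by
  obtain ⟨hf1, hc1⟩ := index_bound
  obtain ⟨hf2, hc2⟩ := card_H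
  have hG : Finite Grp := Finite.of_equiv _ (Subgroup.groupEquivQuotientProdSubgroup (s := H)).symm
  refine ⟨hG, ?_⟩
  rw [Subgroup.card_eq_card_quotient_mul_card_subgroup H]
  calc Nat.card (Grp ⧸ H) * Nat.card H ≤ cN * 6048 := Nat.mul_le_mul hc1 hc2
    _ = 1209600 := by decide

end Cfsg.Agent.Lib.Helper3.G24TC.J
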